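import Groth.Agent.Lib.Cartier.Smooth
import Groth.Agent.Lib.AbRigid.SmoothGI
import Groth.Prelude.Def_CoactBr

/-!
# Cartier's theorem for Hopf algebras: reducedness in characteristic zero
-/

universe u

open CategoryTheory AlgebraicGeometry

namespace Groth.Agent.HopfRedH28

theorem isReduced_of_charZero (k : Type u) [Field k] [CharZero k] (A : Type u) [CommRing A] [HopfAlgebra k A]
    [Algebra.FiniteType k A] : _root_.IsReduced A := by
  let G := (Spec (CommRingCat.of A)).asOver (Spec (CommRingCat.of k))
  haveI : LocallyOfFiniteType G.hom := by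
    show LocallyOfFiniteType (Spec.map (CommRingCat.ofHom (algebraMap k A)))
    rw [HasRingHomProperty.Spec_iff (P := @LocallyOfFiniteType)]
    exact RingHom.finiteType_algebraMap.2 inferInstance
  haveI : AlgebraicGeometry.IsReduced (Spec (CommRingCat.of A)) :=
    @Groth.Agent.AbRigid.isReduced_of_smooth_over_field k _ G.left G.hom (Groth.Agent.Cartier.smooth_of_charZero (K := k) G)
  exact isReduced_of_injective (Scheme.ΓSpecIso (CommRingCat.of A)).inv.hom
    (ConcreteCategory.bijective_of_isIso _).1

end Groth.Agent.HopfRedH28
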